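import Groth.Prelude.Def_Frob
import Mathlib.AlgebraicGeometry.AlgClosed.Basic
import Mathlib.RingTheory.Ideal.Quotient.Operations

/-!
# Geometric Frobenius on local rings at closed points
-/

set_option autoImplicit false
set_option backward.isDefEq.respectTransparency false
set_option backward.isDefEq.respectTransparency.types false

universe u

open CategoryTheory CategoryTheory.Limits AlgebraicGeometry IsLocalRing

namespace Groth.Agent.FrobCorr5

variable (p : ℕ) [Fact p.Prime]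

theorem frob_Spec (Q : CommRingCat.{u}) [FrobSch.IsCharP (Spec Q) p] (hQ : (p : Q) = 0) :
    FrobSch.frob (Spec Q) p = Spec.map (CommRingCat.ofHom (FrobSch.powHom p Q hQ)) := by
  refine ext_of_isAffine ?_
  ext s
  rw [FrobSch.frob_appTop]
  apply (Scheme.ΓSpecIso Q).commRingCatIsoToRingEquiv.injective
  rw [map_pow]
  exact (congrArg (fun g => g s) (Scheme.ΓSpecIso_naturality (CommRingCat.ofHom (FrobSch.powHom p Q hQ)))).symm

theorem exists_comp_frob_pow (Q : CommRingCat.{u}) {Y : Scheme.{u}} [FrobSch.IsCharP Y p]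
    (h : Spec Q ⟶ Y) (N : ℕ) :
    ∃ φ : Q ⟶ Q, (∀ b : Q, φ b = b ^ (p ^ N)) ∧
      h ≫ End.asHom (End.of (FrobSch.frob Y p) ^ N) = Spec.map φ ≫ h := by
  induction N with
  | zero =>
    refine ⟨𝟙 Q, fun b => by simp, ?_⟩
    rw [pow_zero, Spec.map_id, Category.id_comp]
    exact Category.comp_id h
  | succ N ih =>
    obtain ⟨φ, hφ, e⟩ := ih
    haveI := FrobSch.IsCharP.of_hom h p
    have hQ : (p : Q) = 0 := by
      apply (Scheme.ΓSpecIso Q).commRingCatIsoToRingEquiv.symm.injective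
      rw [map_natCast, map_zero]
      exact FrobSch.IsCharP.natCast_eq_zero
    refine ⟨φ ≫ CommRingCat.ofHom (FrobSch.powHom p Q hQ), fun b => ?_, ?_⟩
    · simp [hφ, ← pow_mul, pow_succ]
    · have hs : End.asHom (End.of (FrobSch.frob Y p) ^ (N + 1)) =
          FrobSch.frob Y p ≫ End.asHom (End.of (FrobSch.frob Y p) ^ N) := by
        rw [pow_succ]
        rfl
      rw [hs, ← FrobSch.frob_comp_assoc p h, e, frob_Spec p Q hQ, Spec.map_comp, Category.assoc]

theorem mem_pow_of_residue {C C₀ : Scheme.{u}} {k₀ : Type u} [Field k₀] {K : Type u} [Field K] [IsAlgClosed K]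
    [Algebra k₀ K] [FrobSch.IsCharP C₀ p]
    (f₀ : C₀ ⟶ Spec (CommRingCat.of k₀)) (πC₀ : C ⟶ C₀) (πK : C ⟶ Spec (CommRingCat.of K))
    [LocallyOfFiniteType πK]
    (hC : IsPullback πC₀ πK f₀ (Spec.map (CommRingCat.ofHom (algebraMap k₀ K))))
    (N : ℕ) (Fr : C ⟶ C) (hFr₀ : Fr ≫ πC₀ = πC₀ ≫ End.asHom (End.of (FrobSch.frob C₀ p) ^ N))
    (hFrK : Fr ≫ πK = πK) (c : C) (hc : IsClosed ({c} : Set C)) :
    (maximalIdeal (C.presheaf.stalk (Fr c))).map (Fr.stalkMap c).hom ≤
      maximalIdeal (C.presheaf.stalk c) ^ (p ^ N) := by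
  let O := C.presheaf.stalk c
  let κ : CommRingCat.of K ⟶ O := Spec.preimage (C.fromSpecStalk c ≫ πK)
  let ρ : O ⟶ CommRingCat.of K := C.residue c ≫ (residueFieldIsoBase πK c hc).hom
  have hκ : κ ≫ ρ = 𝟙 _ := by
    have h1 : κ ≫ C.residue c = (residueFieldIsoBase πK c hc).inv := by
      apply Spec.map_injective
      rw [Spec.map_comp, Spec.map_preimage, SpecMap_residueFieldIsoBase_inv, ← Category.assoc]
      rfl
    rw [← Category.assoc, h1, Iso.inv_hom_id]
  have hρ : ∀ b ∈ maximalIdeal O, ρ b = 0 := fun b hb => by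
    show (residueFieldIsoBase πK c hc).hom (C.residue c b) = 0
    rw [show C.residue c b = 0 from (IsLocalRing.residue_eq_zero_iff b).2 hb, map_zero]
  let Q : CommRingCat.{u} := CommRingCat.of (O ⧸ maximalIdeal O ^ (p ^ N))
  let s : O ⟶ Q := CommRingCat.ofHom (Ideal.Quotient.mk _)
  have hker : maximalIdeal O ^ (p ^ N) ≤ RingHom.ker ρ.hom := fun b hb => RingHom.mem_ker.2
    (hρ b (Ideal.pow_le_self (pow_ne_zero _ (Fact.out : p.Prime).ne_zero) hb))
  let r : Q ⟶ Q := CommRingCat.ofHom ((κ ≫ s).hom.comp (Ideal.Quotient.lift _ ρ.hom hker))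
  have hsr : s ≫ r = ρ ≫ κ ≫ s := rfl
  have hκr : (κ ≫ s) ≫ r = κ ≫ s := by
    rw [Category.assoc, hsr, reassoc_of% hκ]
  obtain ⟨φ, hφ, eφ⟩ := exists_comp_frob_pow p Q (Spec.map s ≫ C.fromSpecStalk c ≫ πC₀) N
  have hφr : φ ≫ r = φ := by
    ext b
    show r (φ (s b)) = φ (s b)
    rw [hφ, map_pow, ← CommRingCat.comp_apply s r, hsr]
    obtain ⟨hp⟩ := (inferInstance : FrobSch.IsCharP C₀ p)
    rw [← sub_eq_zero, ← hφ, ← hφ, ← map_sub, hφ]
    show (s (κ (ρ b)) - s b) ^ (p ^ N) = 0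
    rw [← map_sub, ← map_pow]
    refine Ideal.Quotient.eq_zero_iff_mem.2 (Ideal.pow_mem_pow ?_ _)
    refine (IsLocalRing.residue_eq_zero_iff _).1 ?_
    show C.residue c (κ (ρ b) - b) = 0
    apply (residueFieldIsoBase πK c hc).commRingCatIsoToRingEquiv.injective
    rw [map_zero]
    show ρ (κ (ρ b) - b) = 0
    rw [map_sub, ← CommRingCat.comp_apply κ ρ, hκ]
    exact sub_self _
  let α : Spec Q ⟶ C := Spec.map s ≫ C.fromSpecStalk c ≫ Fr
  have hα : Spec.map r ≫ α = α := by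
    refine hC.hom_ext ?_ ?_
    · have e : α ≫ πC₀ = Spec.map φ ≫ Spec.map s ≫ C.fromSpecStalk c ≫ πC₀ := by
        rw [← eφ]
        simp only [α, Category.assoc, hFr₀]
      rw [Category.assoc, e, ← Spec.map_comp_assoc, hφr]
    · have e : α ≫ πK = Spec.map (κ ≫ s) := by
        simp only [α, Category.assoc, hFrK]
        rw [Spec.map_comp, Spec.map_preimage]
      rw [Category.assoc, e, ← Spec.map_comp, hκr]
  have hα' : α = Spec.map (Fr.stalkMap c ≫ s) ≫ C.fromSpecStalk (Fr c) := by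
    simp only [α]
    rw [← Scheme.SpecMap_stalkMap_fromSpecStalk, Spec.map_comp, Category.assoc]
  rw [hα', ← Spec.map_comp_assoc, cancel_mono] at hα
  have hs := Spec.map_injective hα
  refine Ideal.map_le_iff_le_comap.2 fun t ht => Ideal.mem_comap.2 (Ideal.Quotient.eq_zero_iff_mem.1 ?_)
  show s (Fr.stalkMap c t) = 0
  rw [← CommRingCat.comp_apply, ← hs, CommRingCat.comp_apply, CommRingCat.comp_apply, ← CommRingCat.comp_apply s r,
    hsr, CommRingCat.comp_apply]
  have : ρ (Fr.stalkMap c t) = 0 := by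
    refine hρ _ ?_
    intro hu
    exact ht (isUnit_of_map_unit (Fr.stalkMap c).hom t hu)
  rw [this, map_zero]

end Groth.Agent.FrobCorr5
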