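import Groth.Agent.ModPairLib.Basic
import Groth.Agent.AssLib.Basic
import Mathlib.AlgebraicGeometry.Morphisms.QuasiFinite
import Mathlib.Topology.JacobsonSpace

/-!
# Inverse images of closed points on local rings
-/

set_option autoImplicit false
set_option backward.isDefEq.respectTransparency false
set_option backward.isDefEq.respectTransparency.types false

universe u

open CategoryTheory CategoryTheory.Limits AlgebraicGeometry TopologicalSpace IsLocalRing

namespace Groth.Agent.FrobCorr5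

variable {C X : Scheme.{u}} (f : C ⟶ X) (x : X) (hx : IsClosed ({x} : Set X))

/-- The stalk at `c` of the ideal of the fibre over the closed point `x`. -/
noncomputable def stalkIdeal (c : C) : Ideal (C.presheaf.stalk c) :=
  letI := Classical.propDecidable (f c = x)
  if f c = x then (maximalIdeal (X.presheaf.stalk (f c))).map (f.stalkMap c).hom else ⊤

theorem stalkIdeal_of_eq {c : C} (h : f c = x) :
    stalkIdeal f x c = (maximalIdeal (X.presheaf.stalk (f c))).map (f.stalkMap c).hom := if_pos h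

theorem stalkIdeal_of_ne {c : C} (h : f c ≠ x) : stalkIdeal f x c = ⊤ := if_neg h

theorem map_germ_comap (V : C.affineOpens) (c : C) (hc : c ∈ V.1) :
    (((Scheme.IdealSheafData.vanishingIdeal ⟨{x}, hx⟩).comap f).ideal V).map (C.presheaf.germ V.1 c hc).hom =
      stalkIdeal f x c := by
  obtain ⟨U, hU, hcU, -⟩ := exists_isAffineOpen_mem_and_subset (x := f c) (U := (⊤ : X.Opens)) trivial
  obtain ⟨W, hW, hcW, hWle⟩ := exists_isAffineOpen_mem_and_subset (x := c) (U := V.1 ⊓ f ⁻¹ᵁ U) ⟨hc, hcU⟩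
  have hWV : (⟨W, hW⟩ : C.affineOpens) ≤ V := fun z hz => (hWle hz).1
  have hWU : W ≤ f ⁻¹ᵁ U := fun z hz => (hWle hz).2
  set I := Scheme.IdealSheafData.vanishingIdeal ⟨{x}, hx⟩
  have h1 : ((I.comap f).ideal V).map (C.presheaf.germ V.1 c hc).hom =
      ((I.ideal ⟨U, hU⟩).map (X.presheaf.germ U (f c) hcU).hom).map (f.stalkMap c).hom := by
    have hg : C.presheaf.map (homOfLE (hWV : W ≤ V.1)).op ≫ C.presheaf.germ W c hcW = C.presheaf.germ V.1 c hc :=
      C.presheaf.germ_res (homOfLE hWV) c hcW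
    have hI : ((I.comap f).ideal V).map (C.presheaf.map (homOfLE (hWV : W ≤ V.1)).op).hom = (I.comap f).ideal ⟨W, hW⟩ :=
      (I.comap f).map_ideal hWV
    rw [← hg, CommRingCat.hom_comp, ← Ideal.map_map, hI, ModPairLib.ideal_comap I f ⟨U, hU⟩ ⟨W, hW⟩ hWU,
      Ideal.map_map, Ideal.map_map, ← CommRingCat.hom_comp, ← CommRingCat.hom_comp, Scheme.Hom.germ_stalkMap,
      Scheme.Hom.appLE, Category.assoc, TopCat.Presheaf.germ_res]
  rw [h1]
  letI := TopCat.Presheaf.algebra_section_stalk X.presheaf (⟨f c, hcU⟩ : ↥U)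
  haveI := hU.isLocalization_stalk ⟨f c, hcU⟩
  by_cases h : f c = x
  · rw [stalkIdeal_of_eq f x h]
    congr 1
    have : I.ideal ⟨U, hU⟩ = (hU.primeIdealOf ⟨f c, hcU⟩).asIdeal := by
      rw [Scheme.IdealSheafData.vanishingIdeal_ideal, ← PrimeSpectrum.vanishingIdeal_singleton]
      congr 1
      ext q
      simp only [Closeds.coe_mk, Set.mem_preimage, Set.mem_singleton_iff]
      refine ⟨fun hq => hU.fromSpec.isOpenEmbedding.injective ?_, fun hq => ?_⟩
      · rw [hU.fromSpec_primeIdealOf]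
        exact hq.trans h.symm
      · rw [hq, hU.fromSpec_primeIdealOf]
        exact h
    rw [this]
    exact IsLocalization.AtPrime.map_eq_maximalIdeal _ _
  · rw [stalkIdeal_of_ne f x h]
    have hns : f c ∉ I.support := by
      rw [← SetLike.mem_coe, Scheme.IdealSheafData.coe_support_vanishingIdeal]
      exact h
    rw [Scheme.IdealSheafData.mem_support_iff_of_mem (U := ⟨U, hU⟩) hcU, Scheme.mem_zeroLocus_iff] at hns
    push Not at hns
    obtain ⟨a, ha, hau⟩ := hns
    have hu : IsUnit (X.presheaf.germ U (f c) hcU a) := (Scheme.mem_basicOpen X a (f c) hcU).1 hau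
    rw [Ideal.eq_top_of_isUnit_mem _ (Ideal.mem_map_of_mem _ ha) hu, Ideal.map_top]

/-- An inequality of powers of fibre ideals can be tested at closed points. -/
theorem comap_pow_le [JacobsonSpace C] (g : C ⟶ X) (a b : ℕ)
    (h : ∀ c : C, IsClosed ({c} : Set C) → stalkIdeal f x c ^ a ≤ stalkIdeal g x c ^ b) :
    (Scheme.IdealSheafData.vanishingIdeal ⟨{x}, hx⟩).comap f ^ a ≤
      (Scheme.IdealSheafData.vanishingIdeal ⟨{x}, hx⟩).comap g ^ b := by
  intro V
  rw [Scheme.IdealSheafData.ideal_pow, Scheme.IdealSheafData.ideal_pow, Pi.pow_apply, Pi.pow_apply]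
  intro t ht
  suffices hJ : Submodule.colon (((Scheme.IdealSheafData.vanishingIdeal ⟨{x}, hx⟩).comap g).ideal V ^ b) {t} = ⊤ by
    have := Submodule.mem_colon_singleton.1 ((Ideal.eq_top_iff_one _).1 hJ)
    rwa [one_smul] at this
  by_contra hne
  obtain ⟨P, hP, hle⟩ := Ideal.exists_le_maximal _ hne
  let q : Spec Γ(C, V.1) := ⟨P, hP.isPrime⟩
  have hcV : V.2.fromSpec q ∈ V.1 := (Set.ext_iff.1 V.2.range_fromSpec _).1 ⟨q, rfl⟩
  have hq : V.2.primeIdealOf ⟨V.2.fromSpec q, hcV⟩ = q :=
    V.2.fromSpec.isOpenEmbedding.injective (V.2.fromSpec_primeIdealOf ⟨_, hcV⟩)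
  have hc : IsClosed ({V.2.fromSpec q} : Set C) := by
    refine isClosed_singleton_of_isLocallyClosed_singleton ?_
    have h1 : IsLocallyClosed (({q} : Set (Spec Γ(C, V.1)))) :=
      ((PrimeSpectrum.isClosed_singleton_iff_isMaximal q).2 hP).isLocallyClosed
    simpa using h1.image V.2.fromSpec.isOpenEmbedding.isInducing V.2.fromSpec.isOpenEmbedding.isOpen_range.isLocallyClosed
  letI := TopCat.Presheaf.algebra_section_stalk C.presheaf (⟨_, hcV⟩ : ↥V.1)
  haveI := V.2.isLocalization_stalk ⟨_, hcV⟩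
  have key := h _ hc
  rw [← map_germ_comap f x hx V _ hcV, ← map_germ_comap g x hx V _ hcV, ← Ideal.map_pow, ← Ideal.map_pow] at key
  obtain ⟨r, hr, hrt⟩ := (IsLocalization.algebraMap_mem_map_algebraMap_iff
    (V.2.primeIdealOf ⟨_, hcV⟩).asIdeal.primeCompl (C.presheaf.stalk (V.2.fromSpec q)) _ t).1
    (key (Ideal.mem_map_of_mem _ ht))
  exact hr (hq.symm ▸ hle (Submodule.mem_colon_singleton.2 hrt))

include hx in
/-- The ramification bound at a point of the fibre. -/
theorem maximalIdeal_pow_le [LocallyQuasiFinite f] (d : ℕ)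
    (hd : ((Scheme.IdealSheafData.vanishingIdeal ⟨{x}, hx⟩).comap f).radical ^ d ≤
      (Scheme.IdealSheafData.vanishingIdeal ⟨{x}, hx⟩).comap f) {c : C} (hcx : f c = x) :
    maximalIdeal (C.presheaf.stalk c) ^ d ≤ stalkIdeal f x c := by
  obtain ⟨U, hU, hcU, -⟩ := exists_isAffineOpen_mem_and_subset (x := c) (U := (⊤ : C.Opens)) trivial
  letI := TopCat.Presheaf.algebra_section_stalk C.presheaf (⟨c, hcU⟩ : ↥U)
  haveI := hU.isLocalization_stalk ⟨c, hcU⟩
  haveI : DiscreteTopology ↥(f ⁻¹' {f c}) := (f.isDiscrete_preimage_singleton (f c)).to_subtype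
  have hrad : (stalkIdeal f x c).radical = maximalIdeal (C.presheaf.stalk c) := by
    refine le_antisymm (IsLocalRing.le_maximalIdeal ?_) ?_
    · rw [Ne, Ideal.radical_eq_top, stalkIdeal_of_eq f x hcx]
      refine fun htop => (maximalIdeal.isMaximal (C.presheaf.stalk c)).ne_top (top_le_iff.1 (htop.ge.trans ?_))
      exact Ideal.map_le_iff_le_comap.2 fun t ht hu => ht (isUnit_of_map_unit (f.stalkMap c).hom t hu)
    · rw [Ideal.radical_eq_sInf]
      refine le_sInf fun P ⟨hle, hP⟩ => le_of_eq ?_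
      rw [stalkIdeal_of_eq f x hcx] at hle
      let q : Spec (C.presheaf.stalk c) := ⟨P, hP⟩
      have hqc : q ⤳ IsLocalRing.closedPoint (C.presheaf.stalk c) :=
        (PrimeSpectrum.le_iff_specializes _ _).1 (IsLocalRing.le_maximalIdeal hP.ne_top)
      have hz' : C.fromSpecStalk c q ⤳ c := by
        have := hqc.map (C.fromSpecStalk c).continuous
        rwa [Scheme.fromSpecStalk_closedPoint] at this
      have hq' : Spec.map (f.stalkMap c) q = IsLocalRing.closedPoint (X.presheaf.stalk (f c)) := by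
        refine PrimeSpectrum.ext ?_
        exact ((maximalIdeal.isMaximal _).eq_of_le (Ideal.IsPrime.ne_top inferInstance)
          (Ideal.map_le_iff_le_comap.1 hle)).symm
      have hg : f (C.fromSpecStalk c q) = f c := by
        rw [← Scheme.Hom.comp_apply, ← Scheme.SpecMap_stalkMap_fromSpecStalk, Scheme.Hom.comp_apply, hq',
          Scheme.fromSpecStalk_closedPoint]
      have hs : (⟨_, hg⟩ : ↥(f ⁻¹' {f c})) ⤳ ⟨c, rfl⟩ := Topology.IsInducing.subtypeVal.specializes_iff.1 hz'
      have e : q = IsLocalRing.closedPoint (C.presheaf.stalk c) := (C.fromSpecStalk c).isEmbedding.injective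
        ((congrArg Subtype.val hs.eq).trans (Scheme.fromSpecStalk_closedPoint).symm)
      exact (congrArg PrimeSpectrum.asIdeal e).symm
  have h := Ideal.map_mono (f := (C.presheaf.germ U c hcU).hom) (hd ⟨U, hU⟩)
  rw [Scheme.IdealSheafData.ideal_pow, Pi.pow_apply, Scheme.IdealSheafData.radical_ideal, Ideal.map_pow,
    map_germ_comap f x hx ⟨U, hU⟩ c hcU] at h
  refine le_trans (Ideal.pow_right_mono ?_ d) h
  rw [← hrad, ← map_germ_comap f x hx ⟨U, hU⟩ c hcU]
  exact le_of_eq (IsLocalization.map_radical (hU.primeIdealOf ⟨c, hcU⟩).asIdeal.primeCompl (C.presheaf.stalk c) _).symm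

end Groth.Agent.FrobCorr5
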