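import Groth.Agent.FrobCorr5.Frob
import Groth.Agent.FrobCorr5.Stalk

/-!
# Twisting a correspondence by a high power of Frobenius
-/

set_option autoImplicit false
set_option backward.isDefEq.respectTransparency false
set_option backward.isDefEq.respectTransparency.types false

universe u

open CategoryTheory CategoryTheory.Limits AlgebraicGeometry IsLocalRing

namespace Groth.Agent.FrobCorr5

theorem stalkIdeal_comp_le {A B X : Scheme.{u}} (h : A ⟶ B) (f : B ⟶ X) (x : X) (a : A)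
    {I : Ideal (B.presheaf.stalk (h a))} (hfx : f (h a) = x) (hI : stalkIdeal f x (h a) ≤ I) :
    stalkIdeal (h ≫ f) x a ≤ I.map (h.stalkMap a).hom := by
  rw [stalkIdeal_of_eq (h ≫ f) x (show (h ≫ f) a = x from hfx), Scheme.Hom.stalkMap_comp, CommRingCat.hom_comp,
    ← Ideal.map_map]
  refine Ideal.map_mono ?_
  exact (stalkIdeal_of_eq f x hfx).ge.trans hI

theorem stalkIdeal_comp_ge {A B X : Scheme.{u}} (h : A ⟶ B) (f : B ⟶ X) (x : X) (a : A) (hfx : f (h a) = x) :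
    stalkIdeal (h ≫ f) x a = (stalkIdeal f x (h a)).map (h.stalkMap a).hom := by
  rw [stalkIdeal_of_eq (h ≫ f) x (show (h ≫ f) a = x from hfx), stalkIdeal_of_eq f x hfx, Scheme.Hom.stalkMap_comp,
    CommRingCat.hom_comp, ← Ideal.map_map]
  rfl

variable {C C₀ X : Scheme.{u}} (p : ℕ) [Fact p.Prime] {k₀ : Type u} [Field k₀] {K : Type u} [Field K] [IsAlgClosed K]
    [Algebra k₀ K] [FrobSch.IsCharP C₀ p]
    (f₀ : C₀ ⟶ Spec (CommRingCat.of k₀)) (πC₀ : C ⟶ C₀) (πK : C ⟶ Spec (CommRingCat.of K))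
    [LocallyOfFiniteType πK]
    (hC : IsPullback πC₀ πK f₀ (Spec.map (CommRingCat.ofHom (algebraMap k₀ K))))
    (N : ℕ) (Fr : C ⟶ C) (hFr₀ : Fr ≫ πC₀ = πC₀ ≫ End.asHom (End.of (FrobSch.frob C₀ p) ^ N))
    (hFrK : Fr ≫ πK = πK) (c₁ : C ⟶ X)

include hC hFr₀ hFrK in
/-- The fibre ideal of the twisted map lies in the `p ^ N`-th power of the maximal ideal. -/
theorem stalkIdeal_twist_le {x : X} {c : C} (hc : IsClosed ({c} : Set C)) (h : c₁ (Fr c) = x) :
    stalkIdeal (Fr ≫ c₁) x c ≤ maximalIdeal (C.presheaf.stalk c) ^ (p ^ N) := by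
  refine (stalkIdeal_comp_le Fr c₁ x c h (I := maximalIdeal _) ?_).trans (mem_pow_of_residue p f₀ πC₀ πK hC N Fr hFr₀ hFrK c hc)
  rw [stalkIdeal_of_eq c₁ x h]
  exact Ideal.map_le_iff_le_comap.2 fun t ht hu => ht (isUnit_of_map_unit (c₁.stalkMap (Fr c)).hom t hu)

variable (c₂ : C ⟶ X) [LocallyQuasiFinite c₂]

include hC hFr₀ hFrK in
/-- The contraction property near the fixed points. -/
theorem exists_contracting (x : X) (hx : IsClosed ({x} : Set X)) (d : ℕ) (hn : d < p ^ N)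
    (hd : ((Scheme.IdealSheafData.vanishingIdeal ⟨{x}, hx⟩).comap c₂).radical ^ d ≤
        (Scheme.IdealSheafData.vanishingIdeal ⟨{x}, hx⟩).comap c₂) :
    ∃ W : C.Opens, (∀ c, c₁ (Fr c) = c₂ c → c ∈ W) ∧
      (Scheme.IdealSheafData.vanishingIdeal ⟨{x}, hx⟩).comap (W.ι ≫ Fr ≫ c₁) ≤
        (Scheme.IdealSheafData.vanishingIdeal ⟨{x}, hx⟩).comap (W.ι ≫ c₂) ∧
      ∃ k : ℕ, (Scheme.IdealSheafData.vanishingIdeal ⟨{x}, hx⟩).comap (W.ι ≫ Fr ≫ c₁) ^ k ≤
        (Scheme.IdealSheafData.vanishingIdeal ⟨{x}, hx⟩).comap (W.ι ≫ c₂) ^ (k + 1) := by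
  haveI : DiscreteTopology ↥(c₂ ⁻¹' {x}) := (c₂.isDiscrete_preimage_singleton x).to_subtype
  let B : Set C := {c | c₂ c = x ∧ c₁ (Fr c) ≠ x}
  have hB : IsClosed B := by
    have h1 := (hx.preimage c₂.continuous).isClosedEmbedding_subtypeVal.isClosedMap
      (Subtype.val ⁻¹' B) (isClosed_discrete _)
    rwa [Subtype.image_preimage_coe, Set.inter_eq_right.2 fun c hc => (hc.1 : c ∈ c₂ ⁻¹' {x})] at h1
  let W : C.Opens := ⟨Bᶜ, hB.isOpen_compl⟩
  haveI : JacobsonSpace W := LocallyOfFiniteType.jacobsonSpace (W.ι ≫ πK)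
  haveI : JacobsonSpace C := LocallyOfFiniteType.jacobsonSpace πK
  have key : ∀ a b : ℕ, (d + 0) * b ≤ p ^ N * a → ∀ w : W.toScheme, IsClosed ({w} : Set W.toScheme) →
      stalkIdeal (W.ι ≫ Fr ≫ c₁) x w ^ a ≤ stalkIdeal (W.ι ≫ c₂) x w ^ b := by
    intro a b hab w hw
    by_cases h2 : c₂ (W.ι w) = x
    swap
    · rw [stalkIdeal_of_ne (W.ι ≫ c₂) x h2]
      exact le_top.trans (le_of_eq (Ideal.top_pow _ b).symm)
    have h1 : c₁ (Fr (W.ι w)) = x := not_not.1 fun h => w.2 ⟨h2, h⟩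
    have hc : IsClosed ({W.ι w} : Set C) := by
      refine isClosed_singleton_of_isLocallyClosed_singleton ?_
      simpa using hw.isLocallyClosed.image W.ι.isOpenEmbedding.isInducing W.ι.isOpenEmbedding.isOpen_range.isLocallyClosed
    rw [stalkIdeal_comp_ge W.ι (Fr ≫ c₁) x w h1, stalkIdeal_comp_ge W.ι c₂ x w h2, ← Ideal.map_pow, ← Ideal.map_pow]
    refine Ideal.map_mono ((Ideal.pow_right_mono (stalkIdeal_twist_le p f₀ πC₀ πK hC N Fr hFr₀ hFrK c₁ hc h1) a).trans ?_)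
    rw [← pow_mul]
    refine (Ideal.pow_le_pow_right hab).trans ?_
    rw [add_zero, pow_mul]
    exact Ideal.pow_right_mono (maximalIdeal_pow_le c₂ x hx d hd h2) b
  refine ⟨W, fun c hc hcB => hcB.2 (hc.trans hcB.1), ?_, d, comap_pow_le _ x hx _ _ _ (key _ _ ?_)⟩
  · simpa using comap_pow_le (W.ι ≫ Fr ≫ c₁) x hx (W.ι ≫ c₂) 1 1 (key 1 1 (by omega))
  · have h3 : (d + 1) * d ≤ p ^ N * d := Nat.mul_le_mul_right d hn
    rw [add_zero]
    linarith

include hC hFr₀ hFrK in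
/-- Fixed points of the twisted correspondence are isolated. -/
theorem eq_of_specializes_fixed {Fx : Scheme.{u}} (i : Fx ⟶ C) (δ : Fx ⟶ X) [IsPreimmersion i] [IsLocallyNoetherian Fx]
    (h₁ : i ≫ Fr ≫ c₁ = δ) (h₂ : i ≫ c₂ = δ) (d : ℕ) (hn : d < p ^ N) {z : Fx}
    (hz : IsClosed ({i z} : Set C)) (hx : IsClosed ({δ z} : Set X))
    (hd : ((Scheme.IdealSheafData.vanishingIdeal ⟨{δ z}, hx⟩).comap c₂).radical ^ d ≤
        (Scheme.IdealSheafData.vanishingIdeal ⟨{δ z}, hx⟩).comap c₂)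
    (z' : Fx) (hzz : z' ⤳ z) : z' = z := by
  have e1 : c₁ (Fr (i z)) = δ z := by rw [← h₁]; rfl
  have e2 : c₂ (i z) = δ z := by rw [← h₂]; rfl
  have hmap : (maximalIdeal (C.presheaf.stalk (i z))).map (i.stalkMap z).hom = maximalIdeal (Fx.presheaf.stalk z) := by
    refine ((Ideal.map_eq_top_or_isMaximal_of_surjective _ (i.stalkMap_surjective z) (maximalIdeal.isMaximal _)).resolve_left ?_).eq_of_le
      (maximalIdeal.isMaximal _).ne_top (IsLocalRing.le_maximalIdeal ?_) <;>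
    refine fun htop => (maximalIdeal.isMaximal (Fx.presheaf.stalk z)).ne_top (top_le_iff.1 (htop.ge.trans ?_)) <;>
    exact Ideal.map_le_iff_le_comap.2 fun t ht hu => ht (isUnit_of_map_unit (i.stalkMap z).hom t hu)
  have hJ : maximalIdeal (Fx.presheaf.stalk z) ^ d ≤ maximalIdeal (Fx.presheaf.stalk z) ^ (d + 1) := by
    have e3 : stalkIdeal (i ≫ c₂) (δ z) z = stalkIdeal (i ≫ Fr ≫ c₁) (δ z) z := by
      have key : ∀ f g : Fx ⟶ X, f = g → stalkIdeal f (δ z) z = stalkIdeal g (δ z) z := by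
        rintro f g rfl
        rfl
      exact key _ _ (h₂.trans h₁.symm)
    rw [← hmap, ← Ideal.map_pow, ← Ideal.map_pow]
    refine (Ideal.map_mono (maximalIdeal_pow_le c₂ (δ z) hx d hd e2)).trans ?_
    rw [← stalkIdeal_comp_ge i c₂ (δ z) z e2, e3, stalkIdeal_comp_ge i (Fr ≫ c₁) (δ z) z e1]
    exact Ideal.map_mono ((stalkIdeal_twist_le p f₀ πC₀ πK hC N Fr hFr₀ hFrK c₁ hz e1).trans (Ideal.pow_le_pow_right hn))
  have hzero : maximalIdeal (Fx.presheaf.stalk z) ^ d = ⊥ := by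
    refine Submodule.eq_bot_of_le_smul_of_le_jacobson_bot (maximalIdeal (Fx.presheaf.stalk z)) _ (IsNoetherian.noetherian _) ?_
      (IsLocalRing.maximalIdeal_le_jacobson ⊥)
    rwa [smul_eq_mul, ← pow_succ']
  obtain ⟨q, hq⟩ : z' ∈ Set.range (Fx.fromSpecStalk z) := by rw [Scheme.range_fromSpecStalk]; exact hzz
  have : q = IsLocalRing.closedPoint (Fx.presheaf.stalk z) := by
    refine PrimeSpectrum.ext ?_
    refine le_antisymm (IsLocalRing.le_maximalIdeal q.isPrime.ne_top) ?_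
    exact Ideal.IsPrime.le_of_pow_le (n := d) (hzero.le.trans bot_le)
  rw [← hq, this, Scheme.fromSpecStalk_closedPoint]

end Groth.Agent.FrobCorr5
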